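import Cfsg.Agent.H198.FC.Defs

/-!
# S5764: assembly of the linear part (helper376)

`thmL` : `StmtS00`, `StmtClass`, `StmtC2`, `StmtC3`, `StmtC4`, `StmtC6`, `StmtRed`, `StmtRedCor`, `StmtBridge`,
`StmtBridge2` give `ThmL` (strong induction on the dimension).
-/

set_option autoImplicit false

namespace Cfsg.Agent.H376.FC

open Cfsg.Agent.H198.FC

universe u v

/-- the theorem in dimension `m` over `K` -/
def ThmD (K : Type u) [Field K] (m : ℕ) : Prop :=
  ∀ (V : Type v) [AddCommGroup V] [Module K V] [Module.Finite K V], Module.finrank K V = m →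
    ∀ S : Subgroup (Equiv.Perm (R K V)), S ≤ RA K V → (m = 2 → S ≤ RP K V) → Group.IsSolvable S → Five S

/-- from the language of `R` to the semilinear language -/
theorem thmV_of_thmD (hb2 : StmtBridge2.{u, v}) (K : Type u) [Field K] [Finite K] {m : ℕ} (hm : 1 ≤ m)
    (h : ThmD.{u, v} K m) : ThmV.{u, v} K m := by
  intro V _ _ _ hV S' hS' hhm hsol
  obtain ⟨S, hS, hSs, hF⟩ := hb2 K V (by omega) S' hS' hhm hsol
  exact hF (h V hV S (hS.trans RP_le_RA) (fun _ => hS) hSs)

/-- **Assembly of the linear part.** -/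
theorem thmL (h00 : StmtS00.{u, v}) (hcl : StmtClass.{u, v}) (h2 : StmtC2.{u, v}) (h3 : StmtC3.{u, v})
    (h4 : StmtC4.{u, v}) (h6 : StmtC6.{u, v}) (hred : StmtRed.{u, v}) (hcor : StmtRedCor.{u, v})
    (hb : StmtBridge.{u, v}) (hb2 : StmtBridge2.{u, v}) : ThmL.{u, v} := by
  intro K _ _
  have key : ∀ n : ℕ, 2 ≤ n → (n = 2 → 4 ≤ Nat.card K) → ThmD.{u, v} K n := by
    intro n
    induction n using Nat.strong_induction_on with
    | _ n ih =>
      intro hn h4K V _ _ _ hV S hSA hSP hsol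
      subst hV
      by_cases hIN : S ⊓ IN K V = ⊥
      · exact h00 K V hn S hSA hSP hsol hIN
      rcases hcl K V S hn hSA hSP hsol hIN with ⟨W, hW0, hW1, hW⟩ | ⟨k, d, e, hk, hd, he, hr, hp⟩ |
        ⟨E, hE, hEp, hES⟩ | ⟨a, b, Φ, ha, hb', hΦ⟩ | ⟨A, r, a, hA⟩
      · by_cases hall : S ≤ RP K V
        · obtain ⟨S', hS', hhm, hsol', -, hinv, hF⟩ := hb K V (by omega) S hall hsol
          refine hF (hred K V S' hS' hhm hsol' h4K (fun m hm2 hmn hm4 => ?_)
            ⟨W, hW0, hW1, hinv W fun f hf => hW f hf (hall hf)⟩)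
          exact thmV_of_thmD hb2 K (by omega) (ih m hmn hm2 hm4)
        · have h3n : 3 ≤ Module.finrank K V := by
            rcases Nat.eq_or_lt_of_le hn with h | h
            · exact absurd (hSP h.symm) hall
            · exact h
          obtain ⟨f, hf, hfP⟩ := SetLike.not_le_iff_exists.mp hall
          exact hcor K V S hSA h3n hsol ⟨f, hf, hfP⟩ ⟨W, hW0, hW1, hW⟩
      · exact h2 K V S hSA hSP hsol k d e hk hd he hr hp
      · exact h3 K V S hSA (fun h => ⟨hSP h, h4K h⟩) hsol E hE hEp hES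
      · exact h4 K V S hSA hsol a b Φ ha hb' hΦ
      · exact h6 K V S hSA (fun h => ⟨hSP h, h4K h⟩) hsol A r a hA
  intro V _ _ _ hn h4K S hSA hSP hsol
  exact key _ hn h4K V rfl S hSA hSP hsol

end Cfsg.Agent.H376.FC
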