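import Cfsg.Agent.H886.FC.Class

/-!
# S5764: `StmtClass` with `(u' : K) ≠ 0` in the tensor case (helper376; proof: helper886's)
-/

set_option autoImplicit false

universe u v

namespace Cfsg.Agent.H376.FC

open Module Cfsg.Agent.H198.FC Cfsg.Agent.H886.FC

/-- `StmtClass` with `(u' : K) ≠ 0` in the tensor case -/
def StmtClassNe : Prop :=
  ∀ (K : Type u) [Field K] [Finite K] (V : Type v) [AddCommGroup V] [Module K V] [Module.Finite K V]
    (S : Subgroup (Equiv.Perm (R K V))), 2 ≤ Module.finrank K V → S ≤ RA K V →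
    (Module.finrank K V = 2 → S ≤ RP K V) → Group.IsSolvable S → S ⊓ IN K V ≠ ⊥ →
    (∃ W : Submodule K V, W ≠ ⊥ ∧ W ≠ ⊤ ∧ ∀ f ∈ S, f ∈ RP K V → Stb f W) ∨
    (∃ (k d : ℕ) (e : Fin k → R K V), 2 ≤ k ∧ 1 ≤ d ∧ CompleteOrthogonalIdempotents e ∧
      (∀ i, Module.finrank K (LinearMap.range (e i)) = d) ∧
      ∀ f ∈ S, ∃ π : Equiv.Perm (Fin k), ∀ i, f (e i) = e (π i)) ∨
    (∃ E : Subalgebra K (R K V), IsField E ∧ (Module.finrank K E).Prime ∧ ∀ f ∈ S, ∀ X ∈ E, f X ∈ E) ∨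
    (∃ (u' y : ℕ) (Φ : Matrix (Fin u' × Fin y) (Fin u' × Fin y) K ≃ₐ[K] R K V), 2 ≤ u' ∧ 2 ≤ y ∧ (u' : K) ≠ 0 ∧
      ∀ f ∈ S, ∀ B : Matrix (Fin u') (Fin u') K, ∃ B' : Matrix (Fin u') (Fin u') K,
        f (Φ (Matrix.kroneckerMap (· * ·) B (1 : Matrix (Fin y) (Fin y) K))) =
          Φ (Matrix.kroneckerMap (· * ·) B' (1 : Matrix (Fin y) (Fin y) K))) ∨
    (∃ (A : Subgroup (Equiv.Perm (R K V))) (r a : ℕ), C6Data S A r a)

section

variable {K : Type u} [Field K] {V : Type v} [AddCommGroup V] [Module K V]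

theorem noncomm_ne [Finite K] [FiniteDimensional K V] [Nontrivial V]
    {S A : Subgroup (Equiv.Perm (R K V))} (hS : S ≤ RA K V) {r : ℕ} (hr : r.Prime) (hrK : (r : K) ≠ 0)
    (hA0 : A ≠ ⊥) (hA : A ≤ IN K V) (hAS' : A ≤ S) (hAS : ∀ f ∈ S, ∀ a ∈ A, f * a * f⁻¹ ∈ A)
    (hmin : ∀ B : Subgroup (Equiv.Perm (R K V)), B ≤ A → (∀ g ∈ S, ∀ f ∈ B, g * f * g⁻¹ ∈ B) →
      B = ⊥ ∨ B = A)
    (hab : ∀ a ∈ A, ∀ b ∈ A, a * b = b * a) (hAr : ∀ a ∈ A, a ^ r = 1)
    (hc : ¬ ∀ X ∈ Lf A, ∀ Y ∈ Lf A, X * Y = Y * X) :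
    (∃ (u' y : ℕ) (Φ : Matrix (Fin u' × Fin y) (Fin u' × Fin y) K ≃ₐ[K] R K V), 2 ≤ u' ∧ 2 ≤ y ∧ (u' : K) ≠ 0 ∧
      ∀ f ∈ S, ∀ B : Matrix (Fin u') (Fin u') K, ∃ B' : Matrix (Fin u') (Fin u') K,
        f (Φ (Matrix.kroneckerMap (· * ·) B (1 : Matrix (Fin y) (Fin y) K))) =
          Φ (Matrix.kroneckerMap (· * ·) B' (1 : Matrix (Fin y) (Fin y) K))) ∨
    (∃ a : ℕ, C6Data S A r a) := by
  classical
  have : Fact r.Prime := ⟨hr⟩
  have : Finite V := Module.finite_of_finite K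
  have : Finite (R K V) := Module.finite_of_finite K
  -- the radical
  let C : Subgroup (R K V)ˣ :=
    { carrier := {x | cj K V x ∈ A ∧ ∀ Y ∈ Lf A, (x : R K V) * Y = Y * x}
      mul_mem' := by
        rintro x y ⟨hx, hx'⟩ ⟨hy, hy'⟩
        refine ⟨by rw [map_mul]; exact A.mul_mem hx hy, fun Y hY => ?_⟩
        rw [Units.val_mul, mul_assoc, hy' Y hY, ← mul_assoc, hx' Y hY, mul_assoc]
      one_mem' := ⟨by rw [map_one]; exact A.one_mem, fun Y _ => by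
        rw [Units.val_one, one_mul, mul_one]⟩
      inv_mem' := by
        rintro x ⟨hx, hx'⟩
        refine ⟨by rw [map_inv]; exact A.inv_mem hx, fun Y hY => ?_⟩
        have h1 := hx' Y hY
        calc ((x⁻¹ : (R K V)ˣ) : R K V) * Y
            = ((x⁻¹ : (R K V)ˣ) : R K V) * (Y * x) * ((x⁻¹ : (R K V)ˣ) : R K V) := by
              rw [mul_assoc, mul_assoc, Units.mul_inv, mul_one]
          _ = ((x⁻¹ : (R K V)ˣ) : R K V) * (x * Y) * ((x⁻¹ : (R K V)ˣ) : R K V) := by rw [h1]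
          _ = Y * ((x⁻¹ : (R K V)ˣ) : R K V) := by
              rw [← mul_assoc, Units.inv_mul, one_mul] }
  have hC : ∀ x, x ∈ C ↔ cj K V x ∈ A ∧ ∀ Y ∈ Lf A, (x : R K V) * Y = Y * x := fun x => Iff.rfl
  have hCf : ∀ f (hf : f ∈ S), ∀ x ∈ C, fU f (hS hf) x ∈ C := by
    intro f hf x hx
    refine (hC _).2 ⟨fU_mem (hS hf) (hAS f hf) hx.1, fun Y hY => ?_⟩
    have h1 : f⁻¹ Y ∈ Lf A := map_lf (inv_mem (hS hf)) (norm_inv hAS hf) hY
    have h2 := ra_comm (hS hf) (hx.2 _ h1)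
    rw [show f (f⁻¹ Y) = Y from f.apply_symm_apply Y] at h2
    exact h2
  let B : Subgroup (Equiv.Perm (R K V)) := C.map (cj K V)
  have hBA : B ≤ A := by
    rintro _ ⟨x, hx, rfl⟩
    exact hx.1
  have hBS : ∀ g ∈ S, ∀ f ∈ B, g * f * g⁻¹ ∈ B := by
    rintro g hg _ ⟨x, hx, rfl⟩
    rcases (hS hg).2 with h | h
    · rw [conj_cj_rp (hS hg) h]
      exact ⟨_, hCf g hg x hx, rfl⟩
    · rw [conj_cj_anti (hS hg) h]
      exact B.inv_mem ⟨_, hCf g hg x hx, rfl⟩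
  have hB : B = ⊥ := by
    rcases hmin B hBA hBS with h | h
    · exact h
    · exfalso
      apply hc
      rintro _ ⟨x, rfl, hx⟩ Y hY
      rw [← h] at hx
      obtain ⟨x', hx', hxx⟩ := hx
      have h1 : cj K V (x * x'⁻¹) = 1 := by rw [map_mul, map_inv, hxx, mul_inv_cancel]
      obtain ⟨c, hcc⟩ := cj_eq_one h1
      have h2 : (x : R K V) = c • (x' : R K V) := by
        have h3 : (x : R K V) = ((x * x'⁻¹ : (R K V)ˣ) : R K V) * (x' : R K V) := by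
          rw [← Units.val_mul, inv_mul_cancel_right]
        rw [h3, hcc, smul_mul_assoc, one_mul]
      rw [h2, smul_mul_assoc, mul_smul_comm, hx'.2 Y hY]
  have hrad : ∀ x : (R K V)ˣ, cj K V x ∈ A → (∀ Y ∈ Lf A, (x : R K V) * Y = Y * x) →
      cj K V x = 1 := by
    intro x hx hx'
    have h1 : cj K V x ∈ B := ⟨x, ⟨hx, hx'⟩, rfl⟩
    rwa [hB, Subgroup.mem_bot] at h1
  -- the lifts
  have hex : ∀ a : A, ∃ x : (R K V)ˣ, cj K V x = a := fun a => hA a.2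
  choose lam hlam using hex
  obtain ⟨χ, hχ⟩ := exists_chi lam hlam hab
  obtain ⟨m, hm0, ψ, hcard⟩ := exists_matrix lam hlam hab hrad χ hχ
  have hcA : 1 < Nat.card A := by
    have h1 : Nat.card A ≠ 1 := fun h => hA0 (Subgroup.card_eq_one.1 h)
    have h2 : 0 < Nat.card A := Nat.card_pos
    omega
  have hm2 : 2 ≤ m := by
    by_contra h
    have h1 : m = 1 := by omega
    rw [h1] at hcard
    omega
  obtain ⟨y, Φ, hΦ, hfr⟩ := exists_tensor m ⟨0, hm0⟩ ((DA A).val.comp (ψ : _ →ₐ[K] _))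
  have hΦ' : ∀ B : Matrix (Fin m) (Fin m) K,
      Φ (Matrix.kroneckerMap (· * ·) B (1 : Matrix (Fin y) (Fin y) K)) = (ψ B : R K V) := hΦ
  have hn0 : 0 < finrank K V := Module.finrank_pos
  have hy0 : y ≠ 0 := by
    rintro rfl
    omega
  by_cases hy : 2 ≤ y
  · left
    have hmK : (m : K) ≠ 0 := by
      have hpA : IsPGroup r A := by
        intro a
        refine ⟨1, ?_⟩
        rw [pow_one]
        exact Subtype.ext (hAr a a.2)
      obtain ⟨N, hN⟩ := IsPGroup.iff_card.1 hpA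
      obtain ⟨a, _, ha⟩ := (Nat.dvd_prime_pow hr).1 (show m ∣ r ^ N by
        rw [← hN, hcard]; exact dvd_mul_right m m)
      rw [ha, Nat.cast_pow]
      exact pow_ne_zero _ hrK
    refine ⟨m, y, Φ, hm2, hy, hmK, fun f hf B => ?_⟩
    rw [hΦ']
    have h1 : f (ψ B : R K V) ∈ DA A := map_DA (hS hf) (hAS f hf) (ψ B).2
    refine ⟨ψ.symm ⟨_, h1⟩, ?_⟩
    rw [hΦ', AlgEquiv.apply_symm_apply]
  · right
    have hy1 : y = 1 := by omega
    rw [hy1, mul_one] at hfr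
    have hpA : IsPGroup r A := by
      intro a
      refine ⟨1, ?_⟩
      rw [pow_one]
      exact Subtype.ext (hAr a a.2)
    obtain ⟨N, hN⟩ := IsPGroup.iff_card.1 hpA
    obtain ⟨a, _, ha⟩ := (Nat.dvd_prime_pow hr).1 (show m ∣ r ^ N by
      rw [← hN, hcard]; exact dvd_mul_right m m)
    have ha1 : 1 ≤ a := by
      rw [Nat.one_le_iff_ne_zero]
      rintro rfl
      rw [pow_zero] at ha
      omega
    refine ⟨a, hr, ha1, by rw [hfr, ha], hAS', hA, ?_, hAr, hab, ?_, fun g hg f hf => hAS g hg f hf,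
      fun B hB hi => hmin B hB hi⟩
    · rw [hcard, ha, ← pow_add]
      congr 1
      ring
    · have h1 := DA_eq_span A
      have h2 : finrank K (DA A) = finrank K (R K V) := by
        rw [finrank_DA lam hlam hab hrad χ hχ, hcard, Module.finrank_linearMap, hfr]
      have h3 : (DA A).toSubmodule = ⊤ := Submodule.eq_top_of_finrank_eq h2
      rw [← h3, h1]
      rfl

end

/-- **L-CL** with `u' ≠ 0` in `K` in the tensor case -/
theorem stmtClassNe : StmtClassNe.{u, v} := by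
  intro K _ _ V _ _ _ S hn hS _ hsol hne
  have : Nontrivial V := Module.nontrivial_of_finrank_pos (R := K) (by omega)
  have : Finite V := Module.finite_of_finite K
  have : Finite (R K V) := Module.finite_of_finite K
  have hINn : ∀ g ∈ S, ∀ a ∈ S ⊓ IN K V, g * a * g⁻¹ ∈ S ⊓ IN K V := by
    rintro g hg _ ⟨ha, ⟨x, rfl⟩⟩
    refine ⟨S.mul_mem (S.mul_mem hg ha) (S.inv_mem hg), ?_⟩
    rcases (hS hg).2 with h | h
    · rw [conj_cj_rp (hS hg) h]
      exact ⟨_, rfl⟩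
    · rw [conj_cj_anti (hS hg) h]
      exact (IN K V).inv_mem ⟨_, rfl⟩
  obtain ⟨A, r, hr, hA0, hAN, hAS, hmin, hab, hAr⟩ :=
    exists_minimal S (S ⊓ IN K V) hsol hne inf_le_left hINn
  have hA : A ≤ IN K V := hAN.trans inf_le_right
  have hAS' : A ≤ S := hAN.trans inf_le_left
  by_cases hrK : (r : K) = 0
  · exact Or.inl (red_of_char hS hr hA0 hA hAS hab hAr hrK)
  by_cases hc : ∀ X ∈ Lf A, ∀ Y ∈ Lf A, X * Y = Y * X
  · by_cases hP : ∀ e ∈ Prim A, e = 1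
    · -- field
      right; right; left
      obtain ⟨Q, hQ, hQd⟩ := exists_Q hr hrK hAr hc
      have hf := isField_DA hc hQ hQd hP
      have hbot : DA A ≠ ⊥ := by
        intro hbot
        apply hA0
        rw [Subgroup.eq_bot_iff_forall]
        intro a ha
        obtain ⟨x, rfl⟩ := hA ha
        have h1 : (x : R K V) ∈ DA A := lf_le_DA ⟨x, rfl, ha⟩
        rw [hbot, Algebra.mem_bot] at h1
        obtain ⟨c, hcc⟩ := h1
        apply cj_scalar (c := c)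
        rw [← hcc, Algebra.algebraMap_eq_smul_one]
      obtain ⟨E, hE, hEp, hEf⟩ := exists_sub (DA A) hf hbot
      exact ⟨E, hE, hEp, fun f hf X hX => hEf f (hS hf) (fun X hX => map_DA (hS hf) (hAS f hf) hX) X hX⟩
    · push Not at hP
      obtain ⟨e₂, he₂, hne₂⟩ := hP
      rcases comm_many (by omega) hS hAS hc he₂ hne₂ with h | h
      · exact Or.inl h
      · exact Or.inr (Or.inl h)
  · rcases noncomm_ne hS hr hrK hA0 hA hAS' hAS hmin hab hAr hc with h | ⟨a, h⟩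
    · exact Or.inr (Or.inr (Or.inr (Or.inl h)))
    · exact Or.inr (Or.inr (Or.inr (Or.inr ⟨A, r, a, h⟩)))

end Cfsg.Agent.H376.FC
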