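import Cfsg.Agent.H376.FC.Asm
import Cfsg.Agent.H376.FC.ClassNe

/-!
# S5764: assembly of the linear part, second version (helper376)

As `H376/FC/Asm.lean`, with weaker requirements: `StmtC4Ne` (the dimension `u'` of the tensor factor is not `0` in `K`)
and `StmtRedCorH` (the case with a correlation may use `StmtRed` for the given `K`, `V` and the theorem in smaller
dimensions); the classification is proved (`stmtClassNe`, helper886's proof).
-/

set_option autoImplicit false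

namespace Cfsg.Agent.H376.FC

open Cfsg.Agent.H198.FC

universe u v

/-- `StmtC4` for `(u' : K) ≠ 0` -/
def StmtC4Ne : Prop :=
  ∀ (K : Type u) [Field K] [Finite K] (V : Type v) [AddCommGroup V] [Module K V] [Module.Finite K V]
    (S : Subgroup (Equiv.Perm (R K V))), S ≤ RA K V → Group.IsSolvable S →
    ∀ (u' y : ℕ) (Φ : Matrix (Fin u' × Fin y) (Fin u' × Fin y) K ≃ₐ[K] R K V), 2 ≤ u' → 2 ≤ y → (u' : K) ≠ 0 →
    (∀ f ∈ S, ∀ B : Matrix (Fin u') (Fin u') K, ∃ B' : Matrix (Fin u') (Fin u') K,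
      f (Φ (Matrix.kroneckerMap (· * ·) B (1 : Matrix (Fin y) (Fin y) K))) =
        Φ (Matrix.kroneckerMap (· * ·) B' (1 : Matrix (Fin y) (Fin y) K))) → Five S

/-- `StmtRedCor`, with `StmtRed` for `K`, `V` and the semilinear theorem in smaller dimensions as hypotheses -/
def StmtRedCorH : Prop :=
  ∀ (K : Type u) [Field K] [Finite K] (V : Type v) [AddCommGroup V] [Module K V] [Module.Finite K V]
    (S : Subgroup (Equiv.Perm (R K V))), S ≤ RA K V → 3 ≤ Module.finrank K V → Group.IsSolvable S →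
    (∀ S' : Subgroup (Equiv.Perm V), S' ≤ Semi K V → (∀ a, hm K V a ∈ S') → Group.IsSolvable S' →
      (∃ W : Submodule K V, W ≠ ⊥ ∧ W ≠ ⊤ ∧ ∀ g ∈ S', ∀ w ∈ W, g w ∈ W) → FiveV K V S') →
    (∀ m, 2 ≤ m → m < Module.finrank K V → (m = 2 → 4 ≤ Nat.card K) → ThmV.{u, v} K m) →
    (∃ f ∈ S, f ∉ RP K V) →
    (∃ W : Submodule K V, W ≠ ⊥ ∧ W ≠ ⊤ ∧ ∀ f ∈ S, f ∈ RP K V → Stb f W) → Five S

theorem stmtC4Ne_of (h : StmtC4.{u, v}) : StmtC4Ne.{u, v} :=
  fun K _ _ V _ _ _ S hS hsol u' y Φ hu hy _ hΦ => h K V S hS hsol u' y Φ hu hy hΦ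

theorem stmtRedCorH_of (h : StmtRedCor.{u, v}) : StmtRedCorH.{u, v} :=
  fun K _ _ V _ _ _ S hS hn hsol _ _ hf hW => h K V S hS hn hsol hf hW

/-- **Assembly of the linear part.** -/
theorem thmL_of (h00 : StmtS00.{u, v}) (h2 : StmtC2.{u, v}) (h3 : StmtC3.{u, v})
    (h4 : StmtC4Ne.{u, v}) (h6 : StmtC6.{u, v}) (hred : StmtRed.{u, v}) (hcor : StmtRedCorH.{u, v})
    (hb : StmtBridge.{u, v}) (hb2 : StmtBridge2.{u, v}) : ThmL.{u, v} := by
  intro K _ _
  have key : ∀ n : ℕ, 2 ≤ n → (n = 2 → 4 ≤ Nat.card K) → ThmD.{u, v} K n := by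
    intro n
    induction n using Nat.strong_induction_on with
    | _ n ih =>
      intro hn h4K V _ _ _ hV S hSA hSP hsol
      subst hV
      by_cases hIN : S ⊓ IN K V = ⊥
      · exact h00 K V hn S hSA hSP hsol hIN
      have ihV : ∀ m, 2 ≤ m → m < Module.finrank K V → (m = 2 → 4 ≤ Nat.card K) → ThmV.{u, v} K m :=
        fun m hm2 hmn hm4 => thmV_of_thmD hb2 K (by omega) (ih m hmn hm2 hm4)
      have hred' : ∀ S' : Subgroup (Equiv.Perm V), S' ≤ Semi K V → (∀ a, hm K V a ∈ S') → Group.IsSolvable S' →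
          (∃ W : Submodule K V, W ≠ ⊥ ∧ W ≠ ⊤ ∧ ∀ g ∈ S', ∀ w ∈ W, g w ∈ W) → FiveV K V S' :=
        fun S' hS' hhm hsol' hW => hred K V S' hS' hhm hsol' h4K ihV hW
      rcases stmtClassNe K V S hn hSA hSP hsol hIN with ⟨W, hW0, hW1, hW⟩ | ⟨k, d, e, hk, hd, he, hr, hp⟩ |
        ⟨E, hE, hEp, hES⟩ | ⟨a, b, Φ, ha, hb', hne, hΦ⟩ | ⟨A, r, a, hA⟩
      · by_cases hall : S ≤ RP K V
        · obtain ⟨S', hS', hhm, hsol', -, hinv, hF⟩ := hb K V (by omega) S hall hsol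
          exact hF (hred' S' hS' hhm hsol' ⟨W, hW0, hW1, hinv W fun f hf => hW f hf (hall hf)⟩)
        · have h3n : 3 ≤ Module.finrank K V := by
            rcases Nat.eq_or_lt_of_le hn with h | h
            · exact absurd (hSP h.symm) hall
            · exact h
          obtain ⟨f, hf, hfP⟩ := SetLike.not_le_iff_exists.mp hall
          exact hcor K V S hSA h3n hsol hred' ihV ⟨f, hf, hfP⟩ ⟨W, hW0, hW1, hW⟩
      · exact h2 K V S hSA hSP hsol k d e hk hd he hr hp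
      · exact h3 K V S hSA (fun h => ⟨hSP h, h4K h⟩) hsol E hE hEp hES
      · exact h4 K V S hSA hsol a b Φ ha hb' hne hΦ
      · exact h6 K V S hSA (fun h => ⟨hSP h, h4K h⟩) hsol A r a hA
  intro V _ _ _ hn h4K S hSA hSP hsol
  exact key _ hn h4K V rfl S hSA hSP hsol

end Cfsg.Agent.H376.FC
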